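import Cfsg.Agent.H98.Ore.Good
import Cfsg.Agent.H801.Ore.Even
import Cfsg.Agent.H984.Ore.Final
import Cfsg.Agent.H734.OreT5
import Cfsg.Agent.H954.OreB

/-!
# Every isometry of determinant one is a commutator
-/

set_option autoImplicit false
set_option linter.unusedSectionVars false

namespace Cfsg.Agent.H98.Ore

open Module Polynomial Cfsg.Agent.H951 Matrix

universe u v

variable {F : Type u} {V : Type v} [Field F] [Fintype F] [AddCommGroup V] [Module F V] [FiniteDimensional F V]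
  {q : ℕ} {σ : F →+* F} {B : V → V → F}

theorem hypRest : Cfsg.Agent.H984.OreFinal.HypRest.{u, v} F q σ where
  criterion hB _ hg hdet _ _ _ hι _ _ _ hP hPZ hh hZ0 hZ h1 h2 := criterion hB hg hdet hι hP hPZ hh hZ0 hZ h1 h2
  cor_det hB _ hg _ _ _ hι _ hP h0 := cor_det hB hg hι hP h0
  comm_scalar hB _ hl hln := Cfsg.Agent.H734.OreT5.comm_scalar hB hl hln
  of_good hB hn _ hg hdet h := comm_of_good hB hn hg hdet h

/-- The case of a step to a scalar `c` on a plane, `c ^ 2 ≠ 1`, in dimension 4. -/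
lemma good_four (hB : HS q σ B) {g : End F V} (hg : Isom B g) (hdet : LinearMap.det g = 1) (hn : finrank F V = 4)
    {w : V} {U : Submodule F V} {g₁ : End F U} {b : U → F} (h : Step B g w U g₁ b) {c : F}
    (hg₁ : g₁ = c • (1 : End F U)) (hc : c ^ 2 ≠ 1) : Good B g := by
  obtain ⟨hU, hUn⟩ := Cfsg.Agent.H951.OreU.Step.hs hB hg h
  obtain ⟨v, v', hv⟩ := Cfsg.Agent.H984.Ore.exists_frame hU (m := 1) (Or.inl (by omega))
  have hP₁ : Cor (res B U) g₁ (Matrix.of fun _ _ : Fin 1 => c) := by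
    refine ⟨v, v', hv, fun i j => ?_⟩
    rw [hg₁, LinearMap.smul_apply, Module.End.one_apply, hU.smul_left, hv.dual, if_pos (Subsingleton.elim _ _),
      mul_one, Matrix.of_apply]
  obtain ⟨s₀, hs₀, hs₀'⟩ := LieClassical.HermBasic.exists_trace_zero_ne hB.card
  have hs₀σ : σ s₀ = -s₀ := by
    rw [hB.sig]; exact (neg_eq_of_add_eq_zero_right hs₀').symm
  -- c ≠ 0
  have hc0 : c ≠ 0 := by
    rintro rfl
    have h1 := hv.dual 0 0
    rw [if_pos rfl] at h1
    have h2 := h.isom (v 0) (v' 0)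
    rw [hg₁, zero_smul] at h2
    rw [← h2, LinearMap.zero_apply, LinearMap.zero_apply, hU.zero_left] at h1
    exact zero_ne_one h1
  have hγ := h.ne
  set γ := B (g w) w with hγd
  have hcard : finrank F V = 2 * Fintype.card (Unit ⊕ Fin 1) := by
    rw [hn]; simp
  have hdetP : ∀ (s : F) (R : Matrix Unit (Fin 1) F),
      (Matrix.fromBlocks (Matrix.of fun _ _ : Unit => s * γ) R 0 (Matrix.of fun _ _ : Fin 1 => c)).det = s * γ * c := by
    intro s R
    rw [Matrix.det_fromBlocks_zero₂₁, Matrix.det_unique, Matrix.det_unique]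
    rfl
  obtain ⟨R₀, -, hR₀⟩ := Cfsg.Agent.H24.Ore.cor_step hB hg h hP₁ s₀ hs₀σ
  rw [← hγd] at hR₀
  have hd0 : s₀ * γ * c ≠ 0 := mul_ne_zero (mul_ne_zero hs₀ hγ) hc0
  have hfix := cor_det hB hg hcard hR₀ (by rw [hdetP]; exact hd0)
  rw [hdetP, hdet, one_mul] at hfix
  set d₀ := s₀ * γ * c with hd₀
  obtain ⟨R, -, hR⟩ := Cfsg.Agent.H24.Ore.cor_step hB hg h hP₁ (s₀ * d₀⁻¹) (by
    rw [map_mul, hs₀σ, map_inv₀, ← hfix, neg_mul])
  rw [← hγd] at hR
  have h1 : s₀ * d₀⁻¹ * γ * c = 1 := by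
    rw [show s₀ * d₀⁻¹ * γ * c = (s₀ * γ * c) * d₀⁻¹ by ring, ← hd₀, mul_inv_cancel₀ hd0]
  have h2 : s₀ * d₀⁻¹ * γ = c⁻¹ := eq_inv_of_mul_eq_one_left h1
  refine ⟨Unit ⊕ Fin 1, inferInstance, inferInstance, _, Or.inl hcard, hR, ?_, c⁻¹, X - C c, ?_, ?_⟩
  · rw [hdetP, h1]
  · rw [Matrix.charpoly_fromBlocks_zero₂₁]
    have e1 : ∀ (κ : Type) [Fintype κ] [DecidableEq κ] [Unique κ] (a : F),
        (Matrix.of fun _ _ : κ => a).charpoly = X - C a := by
      intro κ _ _ _ a
      rw [Matrix.charpoly, Matrix.det_unique, Matrix.charmatrix_apply_eq]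
      rfl
    rw [e1 Unit, e1 (Fin 1), h2]
  · rw [eval_sub, eval_X, eval_C]
    intro h3
    apply hc
    have h4 : c⁻¹ = c := sub_eq_zero.1 h3
    calc c ^ 2 = c * c := sq c
      _ = c⁻¹ * c := by rw [h4]
      _ = 1 := inv_mul_cancel₀ hc0

theorem comm_all (hB : HS q σ B) (hn : 3 ≤ finrank F V) (hex : ¬ (finrank F V = 3 ∧ q = 2)) {g : End F V}
    (hg : Isom B g) (hdet : LinearMap.det g = 1) : IsComm B g := by
  have hq2 := LieClassical.HermBasic.two_le hB.card
  by_cases hs : ∃ c : F, g = c • (1 : End F V)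
  · obtain ⟨c, rfl⟩ := hs
    apply Cfsg.Agent.H734.OreT5.comm_scalar hB
    · have hnt : Nontrivial V := Module.finrank_pos_iff.1 (by omega : 0 < finrank F V)
      obtain ⟨v, hv⟩ := exists_ne (0 : V)
      obtain ⟨y, hy⟩ : ∃ y, B v y ≠ 0 := by
        by_contra hcon
        push Not at hcon
        exact hv (hB.nd v hcon)
      have h1 := hg v y
      rw [LinearMap.smul_apply, LinearMap.smul_apply, Module.End.one_apply, Module.End.one_apply, hB.smul_left,
        hB.smul_right, ← mul_assoc] at h1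
      have h2 : c * σ c = 1 := mul_right_cancel₀ hy (by rw [h1, one_mul])
      rw [pow_succ', ← hB.sig, h2]
    · rwa [LinearMap.det_smul, map_one, mul_one] at hdet
  push Not at hs
  rcases Nat.lt_or_ge (finrank F V) 4 with h4 | h4
  · have h3 : finrank F V = 3 := by omega
    have hq3 : 3 ≤ q := by
      rcases Nat.lt_or_ge q 3 with h | h
      · exact absurd ⟨h3, by omega⟩ hex
      · exact h
    exact Cfsg.Agent.H984.OreFinal.comm_three hypRest hB hq3 h3 hg hdet hs
  by_cases h1 : ∃ c : F, finrank F (LinearMap.range (g - c • (1 : End F V))) = 1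
  · obtain ⟨c, hc⟩ := h1
    exact Cfsg.Agent.H984.OreFinal.comm_rank_one hypRest hB h4 hg hdet hc
  push Not at h1
  have hr : ∀ c : F, 2 ≤ finrank F (LinearMap.range (g - c • (1 : End F V))) := by
    intro c
    by_contra hcon
    have h5 : finrank F (LinearMap.range (g - c • (1 : End F V))) = 0 := by
      have := h1 c
      omega
    have h6 := Submodule.finrank_eq_zero.1 h5
    rw [LinearMap.range_eq_bot, sub_eq_zero] at h6
    exact hs c h6
  apply comm_of_good hB h4 hg hdet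
  obtain ⟨w, U, g₁, b, hst, h2 | ⟨h2, c, hc1, hc2⟩⟩ := Cfsg.Agent.H954.OreB.exists_good_step hB hg hdet h4 hr
  · rcases Nat.even_or_odd' (finrank F V) with ⟨m, hm | hm⟩
    · exact Cfsg.Agent.H801.Ore.good_even hB hg hdet hm hst h2
    · exact Cfsg.Agent.H984.OreFinal.good_odd hB hg hm hst h2
  · exact good_four hB hg hdet h2 hst hc1 hc2

end Cfsg.Agent.H98.Ore
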