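import Cfsg.Agent.H98.Ore.Defs

/-!
# Frames with their orthogonal complement; maps between frames
-/

set_option autoImplicit false
set_option linter.unusedSectionVars false

namespace Cfsg.Agent.H98.Ore

open Module Polynomial Cfsg.Agent.H951 Matrix

variable {F V : Type*} [Field F] [Fintype F] [AddCommGroup V] [Module F V] [FiniteDimensional F V]
  {q : ℕ} {σ : F →+* F} {B : V → V → F}

lemma HS.symm (hB : HS q σ B) (u v : V) : B v u = σ (B u v) := by
  rw [hB.frm.herm u v, one_mul]

lemma HS.ss (hB : HS q σ B) (a : F) : σ (σ a) = a := hB.frm.sigma_sq a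

lemma HS.nd' (hB : HS q σ B) (u : V) (h : ∀ v, B v u = 0) : u = 0 :=
  hB.nd u fun v => by rw [hB.symm v u, h v, map_zero]

lemma HS.add_left (hB : HS q σ B) (u v w : V) : B (u + v) w = B u w + B v w := hB.frm.add_left u v w
lemma HS.add_right (hB : HS q σ B) (u v w : V) : B w (u + v) = B w u + B w v := hB.frm.add_right u v w
lemma HS.smul_left (hB : HS q σ B) (a : F) (u v : V) : B (a • u) v = a * B u v := hB.frm.smul_left a u v
lemma HS.smul_right (hB : HS q σ B) (a : F) (u v : V) : B u (a • v) = σ a * B u v := hB.frm.smul_right a u v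
lemma HS.sub_left (hB : HS q σ B) (u v w : V) : B (u - v) w = B u w - B v w := hB.frm.sub_left u v w
lemma HS.sub_right (hB : HS q σ B) (u v w : V) : B w (u - v) = B w u - B w v := hB.frm.sub_right u v w
lemma HS.zero_left (hB : HS q σ B) (v : V) : B 0 v = 0 := hB.frm.zero_left v
lemma HS.zero_right (hB : HS q σ B) (v : V) : B v 0 = 0 := hB.frm.zero_right v

lemma HS.sig_inj (_hB : HS q σ B) : Function.Injective σ := σ.injective

/-- A frame `w, w'` with an orthonormal family `l` spanning the orthogonal complement. -/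
structure FF (B : V → V → F) {ι μ : Type} [Fintype ι] [DecidableEq ι] [Fintype μ] [DecidableEq μ]
    (w w' : ι → V) (l : μ → V) : Prop where
  fr : Fr B w w'
  ll : ∀ i j, B (l i) (l j) = if i = j then 1 else 0
  lw : ∀ i j, B (l i) (w j) = 0
  lw' : ∀ i j, B (l i) (w' j) = 0
  full : ∀ u, (∀ i, B u (w i) = 0) → (∀ i, B u (w' i) = 0) → (∀ i, B u (l i) = 0) → u = 0

section

variable {ι μ : Type} [Fintype ι] [DecidableEq ι] [Fintype μ] [DecidableEq μ] {w w' : ι → V} {l : μ → V}

lemma Fr.dual' (hB : HS q σ B) (h : Fr B w w') (i j : ι) : B (w' i) (w j) = if i = j then 1 else 0 := by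
  rw [hB.symm (w j) (w' i), h.dual]
  split_ifs with h1 h2 h2
  · exact map_one σ
  · exact absurd h1.symm h2
  · exact absurd h2.symm h1
  · exact map_zero σ

lemma Fr.swap (hB : HS q σ B) (h : Fr B w w') : Fr B w' w :=
  ⟨h.ww', h.dual' hB, h.ww⟩

lemma FF.wl (hB : HS q σ B) (h : FF B w w' l) (i : ι) (j : μ) : B (w i) (l j) = 0 := by
  rw [hB.symm (l j) (w i), h.lw, map_zero]

lemma FF.w'l (hB : HS q σ B) (h : FF B w w' l) (i : ι) (j : μ) : B (w' i) (l j) = 0 := by
  rw [hB.symm (l j) (w' i), h.lw', map_zero]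

lemma FF.swap (hB : HS q σ B) (h : FF B w w' l) : FF B w' w l :=
  ⟨h.fr.swap hB, h.ll, h.lw', h.lw, fun u h1 h2 h3 => h.full u h2 h1 h3⟩

/-- The map with prescribed values on a frame. -/
noncomputable def fmap (B : V → V → F) (hB : HS q σ B) (w w' : ι → V) (l : μ → V) (v v' : ι → V) (k : μ → V) :
    End F V where
  toFun u := ∑ i, B u (w' i) • v i + ∑ i, B u (w i) • v' i + ∑ i, B u (l i) • k i
  map_add' a b := by
    simp only [hB.add_left, add_smul, Finset.sum_add_distrib]
    abel
  map_smul' c a := by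
    simp only [hB.smul_left, mul_smul, RingHom.id_apply, smul_add, Finset.smul_sum]

lemma fmap_apply (hB : HS q σ B) (v v' : ι → V) (k : μ → V) (u : V) :
    fmap B hB w w' l v v' k u = ∑ i, B u (w' i) • v i + ∑ i, B u (w i) • v' i + ∑ i, B u (l i) • k i := rfl

lemma sum_left' (hB : HS q σ B) {κ : Type*} (s : Finset κ) (a : κ → F) (x : κ → V) (y : V) :
    B (∑ i ∈ s, a i • x i) y = ∑ i ∈ s, a i * B (x i) y := by
  rw [hB.frm.sum_left]
  simp only [hB.smul_left]

lemma sum_right' (hB : HS q σ B) {κ : Type*} (s : Finset κ) (a : κ → F) (x : κ → V) (y : V) :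
    B y (∑ i ∈ s, a i • x i) = ∑ i ∈ s, σ (a i) * B y (x i) := by
  rw [hB.frm.sum_right]
  simp only [hB.smul_right]

/-- Expansion along a full frame. -/
lemma FF.expand (hB : HS q σ B) (h : FF B w w' l) (u : V) :
    u = ∑ i, B u (w' i) • w i + ∑ i, B u (w i) • w' i + ∑ i, B u (l i) • l i := by
  have key := h.full (u - (∑ i, B u (w' i) • w i + ∑ i, B u (w i) • w' i + ∑ i, B u (l i) • l i)) ?_ ?_ ?_
  · exact sub_eq_zero.1 key
  · intro j
    rw [hB.sub_left, hB.add_left, hB.add_left, sum_left' hB, sum_left' hB, sum_left' hB]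
    simp [h.fr.ww, h.fr.dual' hB, h.lw]
  · intro j
    rw [hB.sub_left, hB.add_left, hB.add_left, sum_left' hB, sum_left' hB, sum_left' hB]
    simp [h.fr.ww', h.fr.dual, h.lw']
  · intro j
    rw [hB.sub_left, hB.add_left, hB.add_left, sum_left' hB, sum_left' hB, sum_left' hB]
    simp [h.ll, h.wl hB, h.w'l hB]

variable {v v' : ι → V} {k : μ → V}

lemma fmap_w (hB : HS q σ B) (h : FF B w w' l) (j : ι) : fmap B hB w w' l v v' k (w j) = v j := by
  rw [fmap_apply]
  simp [h.fr.ww, h.fr.dual, h.wl hB]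

lemma fmap_w' (hB : HS q σ B) (h : FF B w w' l) (j : ι) : fmap B hB w w' l v v' k (w' j) = v' j := by
  rw [fmap_apply]
  simp [h.fr.ww', h.fr.dual' hB, h.w'l hB]

lemma fmap_l (hB : HS q σ B) (h : FF B w w' l) (j : μ) : fmap B hB w w' l v v' k (l j) = k j := by
  rw [fmap_apply]
  simp [h.lw', h.lw, h.ll]

lemma fmap_isom (hB : HS q σ B) (h : FF B w w' l) (h2 : FF B v v' k) : Isom B (fmap B hB w w' l v v' k) := by
  intro a b
  have e1 : ∀ i, B (v i) (fmap B hB w w' l v v' k b) = B (w i) b := by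
    intro i
    rw [fmap_apply, hB.add_right, hB.add_right, sum_right' hB, sum_right' hB, sum_right' hB]
    simp [h2.fr.ww, h2.fr.dual, h2.wl hB, ← hB.symm]
  have e2 : ∀ i, B (v' i) (fmap B hB w w' l v v' k b) = B (w' i) b := by
    intro i
    rw [fmap_apply, hB.add_right, hB.add_right, sum_right' hB, sum_right' hB, sum_right' hB]
    simp [h2.fr.ww', h2.fr.dual' hB, h2.w'l hB, ← hB.symm]
  have e3 : ∀ i, B (k i) (fmap B hB w w' l v v' k b) = B (l i) b := by
    intro i
    rw [fmap_apply, hB.add_right, hB.add_right, sum_right' hB, sum_right' hB, sum_right' hB]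
    simp [h2.lw, h2.lw', h2.ll, ← hB.symm]
  conv_lhs => rw [fmap_apply]
  conv_rhs => rw [h.expand hB a]
  simp only [hB.add_left, sum_left' hB, e1, e2, e3]

end

end Cfsg.Agent.H98.Ore
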