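import Cfsg.Agent.H98.Ore.FrameC

/-!
# The criterion
-/

set_option autoImplicit false
set_option linter.unusedSectionVars false

namespace Cfsg.Agent.H98.Ore

open Module Polynomial Cfsg.Agent.H951 Matrix

/-- A finite subgroup `U` normalised by `x` and meeting the centralizer of `x` trivially: every element of `U x` is
conjugate to `x` under `U`. -/
lemma fin_conj {G : Type*} [Group G] (U : Subgroup G) [Finite U] (x : G) (hx : ∀ u ∈ U, x * u * x⁻¹ ∈ U)
    (hc : ∀ u ∈ U, u * x = x * u → u = 1) {y : G} (hy : y * x⁻¹ ∈ U) : ∃ u ∈ U, y = u * x * u⁻¹ := by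
  let f : U → U := fun u => ⟨u * (x * (u : G)⁻¹ * x⁻¹), U.mul_mem u.2 (hx _ (U.inv_mem u.2))⟩
  have hf : Function.Injective f := by
    intro u v huv
    have h1 : (u : G) * (x * (u : G)⁻¹ * x⁻¹) = v * (x * (v : G)⁻¹ * x⁻¹) := congrArg Subtype.val huv
    have h2 : (v : G)⁻¹ * u * x = x * ((v : G)⁻¹ * u) := by
      have h3 : (u : G) * x * (u : G)⁻¹ = v * x * (v : G)⁻¹ := by
        have := congrArg (· * x) h1
        simpa [mul_assoc] using this
      calc (v : G)⁻¹ * u * x = (v : G)⁻¹ * (u * x * (u : G)⁻¹) * u := by group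
        _ = (v : G)⁻¹ * (v * x * (v : G)⁻¹) * u := by rw [h3]
        _ = x * ((v : G)⁻¹ * u) := by group
    have h4 := hc _ (U.mul_mem (U.inv_mem v.2) u.2) h2
    exact Subtype.ext (inv_mul_eq_one.1 h4).symm
  obtain ⟨u, hu⟩ := Finite.surjective_of_injective hf ⟨y * x⁻¹, hy⟩
  have h1 : (u : G) * (x * (u : G)⁻¹ * x⁻¹) = y * x⁻¹ := congrArg Subtype.val hu
  refine ⟨u, u.2, ?_⟩
  have := congrArg (· * x) h1
  simp only [mul_assoc, inv_mul_cancel, mul_one] at this
  rw [← this, mul_assoc]

variable {F V : Type*} [Field F] [Fintype F] [AddCommGroup V] [Module F V] [FiniteDimensional F V]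
  {q : ℕ} {σ : F →+* F} {B : V → V → F}
  {ι : Type} [Fintype ι] [DecidableEq ι] {w w' : ι → V}

/-- Adjoint of a polynomial in an isometry. -/
lemma B_aeval (hB : HS q σ B) {x y : End F V} (hx : Isom B x) (hxy : x * y = 1) (p : F[X]) (u v : V) :
    B (aeval x p u) v = B u (aeval y (p.map σ) v) := by
  have hxy' : ∀ v, x (y v) = v := fun v => by rw [← Module.End.mul_apply, hxy, Module.End.one_apply]
  have h1 : ∀ u v, B (x u) v = B u (y v) := fun u v => by rw [← hx u (y v), hxy']
  induction p using Polynomial.induction_on' generalizing u v with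
  | add p r hp hr =>
    rw [map_add, LinearMap.add_apply, hB.add_left, hp, hr, Polynomial.map_add, map_add, LinearMap.add_apply,
      hB.add_right]
  | monomial n a =>
    rw [Polynomial.map_monomial, aeval_monomial, aeval_monomial]
    have h2 : ∀ n u v, B ((x ^ n) u) v = B u ((y ^ n) v) := by
      intro n
      induction n with
      | zero => intro u v; simp
      | succ n ih =>
        intro u v
        rw [pow_succ, Module.End.mul_apply, ih, h1, pow_succ', Module.End.mul_apply]
    rw [Module.End.mul_apply, Module.End.mul_apply, Module.algebraMap_end_apply, Module.algebraMap_end_apply,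
      hB.smul_left, hB.smul_right, hB.ss, h2]

/-- `y^m (f x) = f.reverse y` -/
lemma aeval_reverse' {x y : End F V} (hyx : y * x = 1) (f : F[X]) :
    aeval y f.reverse = y ^ f.natDegree * aeval x f := by
  have hpow : ∀ a b, y ^ (a + b) * x ^ b = y ^ a := by
    intro a b
    induction b with
    | zero => simp
    | succ b ih =>
      have h1 : y ^ (a + (b + 1)) = y ^ (a + b) * y := by rw [← add_assoc, pow_succ]
      rw [h1, pow_succ', mul_assoc, ← mul_assoc y x, hyx, one_mul, ih]
  rw [aeval_eq_sum_range' (lt_of_le_of_lt f.reverse_natDegree_le (Nat.lt_succ_self _)),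
    aeval_eq_sum_range, Finset.mul_sum, ← Finset.sum_range_reflect]
  refine Finset.sum_congr rfl fun i hi => ?_
  have hi' : i ≤ f.natDegree := Nat.lt_succ_iff.1 (Finset.mem_range.1 hi)
  rw [coeff_reverse, revAt_le (by omega), mul_smul_comm]
  have e1 : f.natDegree.succ - 1 - i = f.natDegree - i := by omega
  have e2 : f.natDegree - (f.natDegree + 1 - 1 - i) = i := by omega
  have h2 := hpow (f.natDegree - i) i
  rw [Nat.sub_add_cancel hi'] at h2
  rw [h2]
  congr 2

/-- Action of `x` on the span of `w`. -/
lemma aeval_frame {x : End F V} {Z : Matrix ι ι F} (hxw : ∀ j, x (w j) = ∑ i, Z i j • w i) (p : F[X]) (j : ι) :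
    aeval x p (w j) = ∑ i, (aeval Z p) i j • w i := by
  induction p using Polynomial.induction_on' generalizing j with
  | add p r hp hr => rw [map_add, LinearMap.add_apply, hp, hr, map_add, ← Finset.sum_add_distrib]
                     simp only [Matrix.add_apply, add_smul]
  | monomial n a =>
    rw [aeval_monomial, aeval_monomial]
    have h2 : ∀ n j, (x ^ n) (w j) = ∑ i, (Z ^ n) i j • w i := by
      intro n
      induction n with
      | zero => intro j; simp [Matrix.one_apply]
      | succ n ih =>
        intro j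
        rw [pow_succ, Module.End.mul_apply, hxw, map_sum]
        simp only [map_smul, ih, Finset.smul_sum, smul_smul]
        rw [Finset.sum_comm]
        simp only [← Finset.sum_smul]
        refine Finset.sum_congr rfl fun i _ => ?_
        rw [pow_succ, Matrix.mul_apply]
        congr 1
        exact Finset.sum_congr rfl fun k _ => mul_comm _ _
    rw [Module.End.mul_apply, Module.algebraMap_end_apply, h2, Finset.smul_sum]
    refine Finset.sum_congr rfl fun i _ => ?_
    rw [Matrix.algebraMap_eq_diagonal, Matrix.diagonal_mul, smul_smul]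
    rfl

lemma aeval_eig {x : End F V} {v : V} {c : F} (h : x v = c • v) (p : F[X]) : aeval x p v = p.eval c • v := by
  induction p using Polynomial.induction_on' with
  | add p r hp hr => rw [map_add, LinearMap.add_apply, hp, hr, eval_add, add_smul]
  | monomial n a =>
    have h1 : ∀ n, (x ^ n) v = c ^ n • v := by
      intro n
      induction n with
      | zero => simp
      | succ n ih => rw [pow_succ', Module.End.mul_apply, ih, map_smul, h, smul_smul, pow_succ]
    rw [aeval_monomial, Module.End.mul_apply, Module.algebraMap_end_apply, h1, eval_monomial, smul_smul]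

lemma map_rev_map (hσ : ∀ a, σ (σ a) = a) (f : F[X]) : ((f.map σ).reverse.map σ) = f.reverse := by
  ext n
  rw [coeff_map, coeff_reverse, coeff_map, hσ, coeff_reverse, natDegree_map]

/-- An isometry of determinant one fixing `w`, commuting with `x`, is the identity. -/
lemma cent_trivial (hB : HS q σ B) {e : ℕ} (he : e ≤ 1) (hn : finrank F V = 2 * Fintype.card ι + e) (h : Fr B w w')
    {x y u : End F V} (hx : Isom B x) (hu : Isom B u) (hxy : x * y = 1)
    (hyx : y * x = 1) {Z : Matrix ι ι F} (hZ : Z.det ≠ 0)
    (hxw : ∀ j, x (w j) = ∑ i, Z i j • w i) (hu1 : LinearMap.det u = 1) (huw : ∀ j, u (w j) = w j)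
    {f : F[X]} (hf : ∀ j, aeval x f (w j) = 0) (hcop : IsCoprime f (f.map σ).reverse)
    (hc : e = 1 → f.eval (LinearMap.det x * σ Z.det * Z.det⁻¹) ≠ 0) (hcomm : u * x = x * u) : u = 1 := by
  obtain ⟨l, hl⟩ := exists_FF hB he hn h
  have huw' : ∀ v, (∀ i, B v (w i) = 0) → ∀ i, B (u v) (w i) = 0 := by
    intro v hv i
    rw [← huw i, hu, hv]
  -- u - 1 maps everything to W^perp
  have hN1 : ∀ v i, B (u v - v) (w i) = 0 := by
    intro v i
    rw [hB.sub_left]
    nth_rewrite 1 [← huw i]
    rw [hu, sub_self]
  -- vectors of W^perp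
  have hWp : ∀ v, (∀ i, B v (w i) = 0) → v = ∑ i, B v (w' i) • w i + ∑ i, B v (l i) • l i := by
    intro v hv
    conv_lhs => rw [hl.expand hB v]
    simp [hv]
  have hfW : ∀ a : ι → F, aeval x f (∑ i, a i • w i) = 0 := by
    intro a
    rw [map_sum]
    simp [hf]
  have huW : ∀ a : ι → F, u (∑ i, a i • w i) = ∑ i, a i • w i := by
    intro a
    rw [map_sum]
    simp [huw]
  -- commutation with polynomials
  have hcp : ∀ p : F[X], u * aeval x p = aeval x p * u := by
    intro p
    have := (Commute.all (1 : F[X]) p)
    induction p using Polynomial.induction_on' with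
    | add p r hp hr => rw [map_add, mul_add, add_mul, hp (Commute.all _ _), hr (Commute.all _ _)]
    | monomial n a =>
      rw [aeval_monomial]
      have h1 : Commute u x := hcomm
      have h2 : Commute u (x ^ n) := h1.pow_right n
      have h3 : Commute u (algebraMap F (End F V) a) := (Algebra.commutes a u).symm
      exact (h3.mul_right h2).eq
  -- step 1 : u fixes W^perp
  have hfixl : ∀ i, u (l i) = l i := by
    intro i
    have he1 : e = 1 := by have := i.2; omega
    subst he1
    obtain rfl : i = 0 := Subsingleton.elim _ _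
    set c := B (x (l 0)) (l 0) with hcdef
    -- determinant of u
    have hd1 := hl.det_eq hB hu (Z := 1) (by simp) (fun j => by rw [huw]; simp [Matrix.one_apply])
    rw [Matrix.det_one, map_one, mul_one, one_mul, Matrix.det_fin_one, Matrix.of_apply, hu1] at hd1
    have hd2 := hl.det_eq hB hx hZ hxw
    rw [Matrix.det_fin_one, Matrix.of_apply, ← hcdef] at hd2
    have hcval : LinearMap.det x * σ Z.det * Z.det⁻¹ = c := by
      rw [hd2]; field_simp
    have hcf := hc rfl
    rw [hcval] at hcf
    -- ν l = u l - l is in W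
    have hulW : ∃ a : ι → F, u (l 0) - l 0 = ∑ i, a i • w i := by
      have h2 := hWp _ (hN1 (l 0))
      refine ⟨fun i => B (u (l 0) - l 0) (w' i), ?_⟩
      have h3 : B (u (l 0) - l 0) (l 0) = 0 := by
        rw [hB.sub_left, ← hd1, hl.ll, if_pos rfl, sub_self]
      simp only [Fin.sum_univ_one, h3, zero_smul, add_zero] at h2
      exact h2
    -- (x - c) l is in W
    have hxlW : ∃ a : ι → F, x (l 0) - c • l 0 = ∑ i, a i • w i := by
      have h1 : ∀ i, B (x (l 0) - c • l 0) (w i) = 0 := by
        intro i
        have h5 : w i = ∑ k, Z⁻¹ k i • x (w k) := by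
          simp only [hxw, Finset.smul_sum, smul_smul]
          rw [Finset.sum_comm]
          simp only [← Finset.sum_smul]
          have : ∀ j, (∑ k, Z⁻¹ k i * Z j k) = if j = i then 1 else 0 := by
            intro j
            have h1 : (Z * Z⁻¹) j i = (1 : Matrix ι ι F) j i := by
              rw [Matrix.mul_nonsing_inv Z (isUnit_iff_ne_zero.2 hZ)]
            rw [Matrix.mul_apply, Matrix.one_apply] at h1
            rw [← h1]
            exact Finset.sum_congr rfl fun k _ => mul_comm _ _
          simp [this]
        rw [hB.sub_left, hB.smul_left, hl.lw, mul_zero, sub_zero, h5, sum_right' hB]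
        apply Finset.sum_eq_zero
        intro k _
        rw [hx, hl.lw, mul_zero]
      have h2 := hWp _ h1
      refine ⟨fun i => B (x (l 0) - c • l 0) (w' i), ?_⟩
      have h3 : B (x (l 0) - c • l 0) (l 0) = 0 := by
        rw [hB.sub_left, hB.smul_left, hl.ll, if_pos rfl, mul_one, ← hcdef, sub_self]
      simp only [Fin.sum_univ_one, h3, zero_smul, add_zero] at h2
      exact h2
    -- x ν l = c ν l
    obtain ⟨a, ha⟩ := hulW
    obtain ⟨b, hb⟩ := hxlW
    have h6 : x (u (l 0) - l 0) = c • (u (l 0) - l 0) := by
      have h7 : u (x (l 0)) = x (u (l 0)) := by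
        rw [← Module.End.mul_apply, hcomm, Module.End.mul_apply]
      have h8 : x (l 0) = c • l 0 + ∑ i, b i • w i := by rw [← hb]; abel
      rw [map_sub, ← h7, h8, map_add, huW, map_smul, smul_sub]
      abel
    have h9 : ∀ p : F[X], aeval x p (u (l 0) - l 0) = p.eval c • (u (l 0) - l 0) := by
      intro p
      exact aeval_eig h6 p
    have h10 := h9 f
    rw [ha, hfW, eq_comm, smul_eq_zero] at h10
    rcases h10 with h10 | h10
    · exact absurd h10 hcf
    · rw [h10] at ha
      exact sub_eq_zero.1 ha
  have hfixWp : ∀ v, (∀ i, B v (w i) = 0) → u v = v := by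
    intro v hv
    rw [hWp v hv, map_add, huW, map_sum]
    simp [hfixl]
  -- step 2 : (u-1) V ≤ W
  have hNW : ∀ v, ∃ a : ι → F, u v - v = ∑ i, a i • w i := by
    intro v
    have h1 : ∀ y, (∀ i, B y (w i) = 0) → B (u v - v) y = 0 := by
      intro y hy
      rw [hB.sub_left]
      nth_rewrite 1 [← hfixWp y hy]
      rw [hu, sub_self]
    have h2 := hWp _ (hN1 v)
    refine ⟨fun i => B (u v - v) (w' i), ?_⟩
    have h3 : ∀ i, B (u v - v) (l i) = 0 := fun i => h1 (l i) fun j => hl.lw i j
    simp only [h3, zero_smul, Finset.sum_const_zero, add_zero] at h2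
    exact h2
  -- step 3
  obtain ⟨a, b, hab⟩ := hcop
  ext v
  rw [Module.End.one_apply]
  apply sub_eq_zero.1
  set t := u v - v with ht
  have h3 : aeval x f t = 0 := by
    obtain ⟨a, ha⟩ := hNW v
    rw [ht, ha, hfW]
  have h4 : aeval x (f.map σ).reverse t = 0 := by
    have h5 : u (aeval x (f.map σ).reverse v) = aeval x (f.map σ).reverse v := by
      apply hfixWp
      intro i
      rw [B_aeval hB hx hxy]
      have h6 : ((f.map σ).reverse.map σ) = f.reverse := map_rev_map hB.ss f
      rw [h6, aeval_reverse' hyx, Module.End.mul_apply, hf, map_zero, hB.zero_right]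
    have h7 : u (aeval x (f.map σ).reverse v) = aeval x (f.map σ).reverse (u v) := by
      rw [← Module.End.mul_apply, hcp, Module.End.mul_apply]
    rw [ht, map_sub, ← h7, h5, sub_self]
  have h8 : aeval x (a * f + b * (f.map σ).reverse) t = 0 := by
    rw [map_add, map_mul, map_mul, LinearMap.add_apply, Module.End.mul_apply, Module.End.mul_apply, h3, h4,
      map_zero, map_zero, add_zero]
  rw [hab, map_one, Module.End.one_apply] at h8
  exact h8

end Cfsg.Agent.H98.Ore
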