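import Cfsg.Agent.H98.Ore.Crit

/-!
# The criterion : main statement
-/

set_option autoImplicit false
set_option linter.unusedSectionVars false

namespace Cfsg.Agent.H98.Ore

open Module Polynomial Cfsg.Agent.H951 Matrix

variable {F V : Type*} [Field F] [Fintype F] [AddCommGroup V] [Module F V] [FiniteDimensional F V]
  {q : ℕ} {σ : F →+* F} {B : V → V → F}
  {ι : Type} [Fintype ι] [DecidableEq ι] {w w' : ι → V}

/-- the group of isometries of determinant one fixing the vectors `w j` -/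
def fixG (B : V → V → F) (w : ι → V) : Subgroup (V ≃ₗ[F] V) where
  carrier := {g | (∀ u v, B (g u) (g v) = B u v) ∧ LinearMap.det (g : V →ₗ[F] V) = 1 ∧ ∀ j, g (w j) = w j}
  mul_mem' := by
    rintro a b ⟨h1, h2, h3⟩ ⟨h4, h5, h6⟩
    refine ⟨fun u v => ?_, ?_, fun j => ?_⟩
    · rw [LinearEquiv.mul_apply, LinearEquiv.mul_apply, h1, h4]
    · have : ((a * b : V ≃ₗ[F] V) : V →ₗ[F] V) = (a : V →ₗ[F] V) ∘ₗ (b : V →ₗ[F] V) := rfl
      rw [this, LinearMap.det_comp, h2, h5, one_mul]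
    · rw [LinearEquiv.mul_apply, h6, h3]
  one_mem' := by
    refine ⟨fun u v => rfl, ?_, fun j => rfl⟩
    have : ((1 : V ≃ₗ[F] V) : V →ₗ[F] V) = LinearMap.id := rfl
    rw [this, LinearMap.det_id]
  inv_mem' := by
    rintro a ⟨h1, h2, h3⟩
    have h4 : ∀ v, a (a⁻¹ v) = v := fun v => by rw [← LinearEquiv.mul_apply, mul_inv_cancel]; rfl
    have h5 : ∀ v, a⁻¹ (a v) = v := fun v => by rw [← LinearEquiv.mul_apply, inv_mul_cancel]; rfl
    refine ⟨fun u v => ?_, ?_, fun j => ?_⟩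
    · rw [← h1, h4, h4]
    · have h6 : (a : V →ₗ[F] V) ∘ₗ ((a⁻¹ : V ≃ₗ[F] V) : V →ₗ[F] V) = LinearMap.id := by
        ext v; exact h4 v
      have h7 := congrArg LinearMap.det h6
      rwa [LinearMap.det_comp, h2, one_mul, LinearMap.det_id] at h7
    · nth_rewrite 1 [← h3 j]
      exact h5 _

lemma mem_fixG {g : V ≃ₗ[F] V} : g ∈ fixG B w ↔
    (∀ u v, B (g u) (g v) = B u v) ∧ LinearMap.det (g : V →ₗ[F] V) = 1 ∧ ∀ j, g (w j) = w j := Iff.rfl

/-- the group of isometries of determinant one -/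
abbrev SGr (B : V → V → F) : Subgroup (V ≃ₗ[F] V) := fixG B (fun i : Empty => i.elim)

lemma mem_SGr {g : V ≃ₗ[F] V} : g ∈ SGr B ↔
    (∀ u v, B (g u) (g v) = B u v) ∧ LinearMap.det (g : V →ₗ[F] V) = 1 :=
  ⟨fun h => ⟨h.1, h.2.1⟩, fun h => ⟨h.1, h.2, fun j => j.elim⟩⟩

/-- Two isometries of determinant one acting in the same way on `w` are conjugate. -/
lemma conj_same (hB : HS q σ B) {e : ℕ} (he : e ≤ 1) (hn : finrank F V = 2 * Fintype.card ι + e) (h : Fr B w w')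
    {x y : V ≃ₗ[F] V} (hx : x ∈ SGr B) (hy : y ∈ SGr B) {Z : Matrix ι ι F} (hZ : Z.det ≠ 0)
    (hxw : ∀ j, x (w j) = ∑ i, Z i j • w i) (hyw : ∀ j, y (w j) = ∑ i, Z i j • w i)
    {f : F[X]} (hf : ∀ j, aeval (x : End F V) f (w j) = 0) (hcop : IsCoprime f (f.map σ).reverse)
    (hc : e = 1 → f.eval (σ Z.det * Z.det⁻¹) ≠ 0) : ∃ u ∈ SGr B, y = u * x * u⁻¹ := by
  have hVf : Finite V := Module.finite_of_finite F
  have hfin : Finite (fixG B w) := by
    have : Function.Injective (fun u : fixG B w => ((u : V ≃ₗ[F] V) : V → V)) := by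
      intro a b hab
      apply Subtype.ext
      exact LinearEquiv.ext fun v => congrFun hab v
    exact Finite.of_injective _ this
  -- `x` and `x⁻¹` preserve the span of `w`
  have h5 : ∀ i, w i = ∑ k, Z⁻¹ k i • x (w k) := by
    intro i
    simp only [hxw, Finset.smul_sum, smul_smul]
    rw [Finset.sum_comm]
    simp only [← Finset.sum_smul]
    have : ∀ j, (∑ k, Z⁻¹ k i * Z j k) = if j = i then 1 else 0 := by
      intro j
      have h1 : (Z * Z⁻¹) j i = (1 : Matrix ι ι F) j i := by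
        rw [Matrix.mul_nonsing_inv Z (isUnit_iff_ne_zero.2 hZ)]
      rw [Matrix.mul_apply, Matrix.one_apply] at h1
      rw [← h1]
      exact Finset.sum_congr rfl fun k _ => mul_comm _ _
    simp [this]
  have hinv : ∀ i, x⁻¹ (w i) = ∑ k, Z⁻¹ k i • w k := by
    intro i
    have h6 : w i = x (∑ k, Z⁻¹ k i • w k) := by
      rw [map_sum]
      simp only [map_smul]
      exact h5 i
    conv_lhs => rw [h6]
    rw [← LinearEquiv.mul_apply, inv_mul_cancel]
    rfl
  have huW : ∀ u ∈ fixG B w, ∀ a : ι → F, u (∑ i, a i • w i) = ∑ i, a i • w i := by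
    intro u hu a
    rw [map_sum]
    simp [(mem_fixG.1 hu).2.2]
  have hle : fixG B w ≤ SGr B := fun u hu => mem_SGr.2 ⟨(mem_fixG.1 hu).1, (mem_fixG.1 hu).2.1⟩
  have hnorm : ∀ u ∈ fixG B w, x * u * x⁻¹ ∈ fixG B w := by
    intro u hu
    have h6 : x * u * x⁻¹ ∈ SGr B := (SGr B).mul_mem ((SGr B).mul_mem hx (hle hu)) ((SGr B).inv_mem hx)
    refine mem_fixG.2 ⟨(mem_SGr.1 h6).1, (mem_SGr.1 h6).2, fun j => ?_⟩
    rw [LinearEquiv.mul_apply, LinearEquiv.mul_apply, hinv, huW u hu, ← hinv, ← LinearEquiv.mul_apply,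
      mul_inv_cancel]
    rfl
  have hcent : ∀ u ∈ fixG B w, u * x = x * u → u = 1 := by
    intro u hu hux
    have hmul : ∀ a b : V ≃ₗ[F] V, ((a * b : V ≃ₗ[F] V) : V →ₗ[F] V) = (a : End F V) * (b : End F V) :=
      fun a b => rfl
    have h7 : (u : End F V) = 1 := by
      refine cent_trivial hB he hn h (x := (x : End F V)) (y := ((x⁻¹ : V ≃ₗ[F] V) : End F V)) (u := (u : End F V))
        (mem_SGr.1 hx).1 (mem_fixG.1 hu).1 ?_ ?_ hZ hxw (mem_fixG.1 hu).2.1 (mem_fixG.1 hu).2.2 hf hcop ?_ ?_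
      · rw [← hmul, mul_inv_cancel]; rfl
      · rw [← hmul, inv_mul_cancel]; rfl
      · intro he1
        rw [show LinearMap.det (x : End F V) = 1 from (mem_SGr.1 hx).2, one_mul]
        exact hc he1
      · rw [← hmul, ← hmul, hux]
    exact LinearEquiv.ext fun v => congrArg (fun f : End F V => f v) h7
  have hyx : y * x⁻¹ ∈ fixG B w := by
    have h6 : y * x⁻¹ ∈ SGr B := (SGr B).mul_mem hy ((SGr B).inv_mem hx)
    refine mem_fixG.2 ⟨(mem_SGr.1 h6).1, (mem_SGr.1 h6).2, fun j => ?_⟩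
    rw [LinearEquiv.mul_apply, hinv, map_sum]
    simp only [map_smul, hyw]
    have h8 := h5 j
    simp only [hxw] at h8
    exact h8.symm
  obtain ⟨u, hu, hu2⟩ := fin_conj (fixG B w) x hnorm hcent hyx
  exact ⟨u, hle hu, hu2⟩

lemma reverse_reverse' {f : F[X]} (h0 : f.coeff 0 ≠ 0) : f.reverse.reverse = f := by
  have h1 : f.natTrailingDegree = 0 := by
    rw [natTrailingDegree_eq_zero]
    exact Or.inr h0
  have h2 : f.reverse.natDegree = f.natDegree := by
    rw [reverse_natDegree, h1, Nat.sub_zero]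
  ext n
  rw [coeff_reverse, coeff_reverse, h2, revAt_invol]

lemma det_ist (Z : Matrix ι ι F) : (ist σ Z).det = σ (Z.det)⁻¹ := by
  have : ist σ Z = (σ.mapMatrix Z⁻¹)ᵀ := by ext i j; rfl
  rw [this, Matrix.det_transpose, ← RingHom.map_det, Matrix.det_nonsing_inv, Ring.inverse_eq_inv']

theorem criterion (hB : HS q σ B) {g : End F V} (hg : Isom B g) (hdet : LinearMap.det g = 1)
    (hι : finrank F V = 2 * Fintype.card ι ∨ finrank F V = 2 * Fintype.card ι + 1) {P Z h : Matrix ι ι F}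
    (hP : Cor B g P) (hPZ : P * Z * h = h * Z) (hh : h.det = 1) (hZ0 : Z.det ≠ 0)
    (hZ : finrank F V = 2 * Fintype.card ι → σ Z.det = Z.det) (h1 : IsCoprime Z.charpoly (Z.charpoly.map σ).reverse)
    (h2 : Z.charpoly.eval (σ Z.det * Z.det⁻¹) ≠ 0) : IsComm B g := by
  obtain ⟨w, w', hw, hPw⟩ := hP
  obtain ⟨e, he, hn⟩ : ∃ e, e ≤ 1 ∧ finrank F V = 2 * Fintype.card ι + e := by
    rcases hι with h3 | h3
    · exact ⟨0, by norm_num, by omega⟩
    · exact ⟨1, le_rfl, h3⟩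
  have hPZ0 : (P * Z).det ≠ 0 := by
    have h3 := congrArg Matrix.det hPZ
    rw [Matrix.det_mul, Matrix.det_mul h, hh, mul_one, one_mul] at h3
    rw [h3]; exact hZ0
  have hh0 : h.det ≠ 0 := by rw [hh]; exact one_ne_zero
  -- g as an equivalence
  set G : V ≃ₗ[F] V := LinearEquiv.ofInjectiveEndo g (Isom.inj' hB hg) with hG
  have hGg : ∀ v, G v = g v := fun v => rfl
  have hGg' : (G : V →ₗ[F] V) = g := by ext v; rfl
  have hGmem : G ∈ SGr B := mem_SGr.2 ⟨fun u v => by rw [hGg, hGg, hg], by rw [hGg', hdet]⟩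
  -- the frame for z
  have hfr : Fr B (fun j => ∑ i, Z i j • w i) (fun j => G⁻¹ (∑ i, ist σ (P * Z) i j • w' i)) := by
    have hGG : ∀ v, g (G⁻¹ v) = v := fun v => by
      rw [← hGg, ← LinearEquiv.mul_apply, mul_inv_cancel]; rfl
    refine ⟨fun i j => ?_, fun i j => ?_, fun i j => ?_⟩
    · rw [sum_left' hB]
      simp only [sum_right' hB]
      simp [hw.ww]
    · rw [← hg, hGG, map_sum]
      simp only [map_smul]
      rw [sum_left' hB]
      simp only [sum_right' hB, hPw]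
      rw [← ist_dual hB hPZ0 i j]
      simp only [Matrix.mul_apply, Finset.sum_mul, Finset.mul_sum]
      rw [Finset.sum_comm]
      refine Finset.sum_congr rfl fun k _ => Finset.sum_congr rfl fun m _ => ?_
      ring
    · rw [← hg, hGG, hGG, sum_left' hB]
      simp only [sum_right' hB]
      simp [hw.ww']
  -- the three isometries
  obtain ⟨z₀, hz, hzw, hzw', hzd⟩ := exists_isom hB he hn hw hfr
  obtain ⟨x₀, hx, hxw, hxw', hxd⟩ := exists_isom hB he hn hw (hw.trans hB (ist_dual hB hZ0))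
  obtain ⟨k₀, hk, hkw, hkw', hkd⟩ := exists_isom hB he hn hw (hw.trans hB (ist_dual hB hh0))
  have hzd1 : LinearMap.det z₀ = 1 := by
    rcases Nat.le_one_iff_eq_zero_or_eq_one.1 he with h0 | h0
    · have h3 := det_even hB (by rw [hn, h0, add_zero]) hw hz hZ0 hzw
      rw [hZ (by rw [hn, h0, add_zero])] at h3
      exact mul_right_cancel₀ hZ0 (by rw [h3, one_mul])
    · exact hzd h0
  have hxd1 : LinearMap.det x₀ = 1 := by
    rcases Nat.le_one_iff_eq_zero_or_eq_one.1 he with h0 | h0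
    · have h3 := det_even hB (by rw [hn, h0, add_zero]) hw hx hZ0 hxw
      rw [hZ (by rw [hn, h0, add_zero])] at h3
      exact mul_right_cancel₀ hZ0 (by rw [h3, one_mul])
    · exact hxd h0
  have hkd1 : LinearMap.det k₀ = 1 := by
    rcases Nat.le_one_iff_eq_zero_or_eq_one.1 he with h0 | h0
    · have h3 := det_even hB (by rw [hn, h0, add_zero]) hw hk hh0 hkw
      rwa [hh, map_one, mul_one] at h3
    · exact hkd h0
  set z : V ≃ₗ[F] V := LinearEquiv.ofInjectiveEndo z₀ (Isom.inj' hB hz) with hzdef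
  set x : V ≃ₗ[F] V := LinearEquiv.ofInjectiveEndo x₀ (Isom.inj' hB hx) with hxdef
  set k : V ≃ₗ[F] V := LinearEquiv.ofInjectiveEndo k₀ (Isom.inj' hB hk) with hkdef
  have hz0 : (z : V →ₗ[F] V) = z₀ := by ext v; rfl
  have hx0 : (x : V →ₗ[F] V) = x₀ := by ext v; rfl
  have hk0 : (k : V →ₗ[F] V) = k₀ := by ext v; rfl
  have hzm : z ∈ SGr B := mem_SGr.2 ⟨hz, by rw [hz0, hzd1]⟩
  have hxm : x ∈ SGr B := mem_SGr.2 ⟨hx, by rw [hx0, hxd1]⟩
  have hkm : k ∈ SGr B := mem_SGr.2 ⟨hk, by rw [hk0, hkd1]⟩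
  have hxw1 : ∀ j, x (w j) = ∑ i, Z i j • w i := hxw
  have hzw1 : ∀ j, z (w j) = ∑ i, Z i j • w i := hzw
  have hxw1' : ∀ j, x (w' j) = ∑ i, ist σ Z i j • w' i := hxw'
  have hzw1' : ∀ j, z (w' j) = G⁻¹ (∑ i, ist σ (P * Z) i j • w' i) := hzw'
  have hkw1' : ∀ j, k (w' j) = ∑ i, ist σ h i j • w' i := hkw'
  have hfw : ∀ j, aeval (x : End F V) Z.charpoly (w j) = 0 := by
    intro j
    rw [aeval_frame (x := (x : End F V)) hxw1, Matrix.aeval_self_charpoly]
    simp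
  obtain ⟨u₁, hu₁, hzu⟩ := conj_same hB he hn hw hxm hzm hZ0 hxw1 hzw1 hfw h1 (fun _ => h2)
  -- the second conjugation
  set y : V ≃ₗ[F] V := k⁻¹ * (G * z) * k with hydef
  have hym : y ∈ SGr B :=
    (SGr B).mul_mem ((SGr B).mul_mem ((SGr B).inv_mem hkm) ((SGr B).mul_mem hGmem hzm)) hkm
  have hcomp : ∀ (X Y : Matrix ι ι F) (a : V ≃ₗ[F] V), (∀ j, a (w' j) = ∑ i, X i j • w' i) →
      ∀ j, a (∑ i, Y i j • w' i) = ∑ i, (X * Y) i j • w' i := by
    intro X Y a ha j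
    rw [map_sum]
    simp only [map_smul, ha, Finset.smul_sum, smul_smul]
    rw [Finset.sum_comm]
    simp only [← Finset.sum_smul]
    refine Finset.sum_congr rfl fun i _ => ?_
    rw [Matrix.mul_apply]
    congr 1
    exact Finset.sum_congr rfl fun k _ => mul_comm _ _
  have hGz : ∀ j, (G * z) (w' j) = ∑ i, ist σ (P * Z) i j • w' i := by
    intro j
    rw [LinearEquiv.mul_apply, hzw1', ← LinearEquiv.mul_apply, mul_inv_cancel]
    rfl
  have hyw' : ∀ j, y (w' j) = ∑ i, ist σ Z i j • w' i := by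
    intro j
    have h3 : k (∑ i, ist σ Z i j • w' i) = (G * z) (k (w' j)) := by
      rw [hcomp _ _ k hkw1', hkw1', hcomp _ _ (G * z) hGz, ← ist_mul, ← ist_mul, hPZ]
    rw [hydef, LinearEquiv.mul_apply, LinearEquiv.mul_apply, ← h3, ← LinearEquiv.mul_apply, inv_mul_cancel]
    rfl
  have hcoeff : Z.charpoly.coeff 0 ≠ 0 := by
    intro h0
    apply hZ0
    rw [Matrix.det_eq_sign_charpoly_coeff, h0, mul_zero]
  have hxinv : (x : End F V) * ((x⁻¹ : V ≃ₗ[F] V) : End F V) = 1 := by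
    ext v
    change x (x⁻¹ v) = v
    rw [← LinearEquiv.mul_apply, mul_inv_cancel]; rfl
  have hxinv' : ((x⁻¹ : V ≃ₗ[F] V) : End F V) * (x : End F V) = 1 := by
    ext v
    change x⁻¹ (x v) = v
    rw [← LinearEquiv.mul_apply, inv_mul_cancel]; rfl
  have hfw' : ∀ j, aeval (x : End F V) (Z.charpoly.map σ).reverse (w' j) = 0 := by
    intro j
    have h3 := aeval_frame (x := (x : End F V)) (w := w') hxw1' (Z.charpoly.map σ).reverse j
    rw [h3]
    apply Finset.sum_eq_zero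
    intro i _
    have h4 : B (aeval (x : End F V) (Z.charpoly.map σ).reverse (w' j)) (w i) = 0 := by
      rw [B_aeval hB (x := (x : End F V)) hx hxinv, map_rev_map hB.ss, aeval_reverse' hxinv', Module.End.mul_apply, hfw, map_zero,
        hB.zero_right]
    rw [h3, sum_left' hB] at h4
    simp only [hw.dual' hB, mul_ite, mul_one, mul_zero, Finset.sum_ite_eq', Finset.mem_univ, if_true] at h4
    rw [h4, zero_smul]
  have hσZ0 : σ Z.det ≠ 0 := (map_ne_zero σ).2 hZ0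
  have hist0 : (ist σ Z).det ≠ 0 := by
    rw [det_ist, map_inv₀]
    exact inv_ne_zero hσZ0
  obtain ⟨u₂, hu₂, hyu⟩ := conj_same hB he hn (hw.swap hB) hxm hym hist0 hxw1' hyw' hfw' (by
    rw [map_rev_map hB.ss, reverse_reverse' hcoeff]
    exact h1.symm) (by
    intro _ h3
    apply h2
    rw [det_ist, map_inv₀, inv_inv, map_inv₀, hB.ss] at h3
    set c := σ Z.det * Z.det⁻¹ with hcdef
    have hc0 : c ≠ 0 := mul_ne_zero hσZ0 (inv_ne_zero hZ0)
    have h4 : (Z.det)⁻¹ * σ Z.det = c := mul_comm _ _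
    rw [h4] at h3
    let _ : Invertible c⁻¹ := invertibleOfNonzero (inv_ne_zero hc0)
    have h5 := eval₂_reverse_eq_zero_iff (RingHom.id F) (c⁻¹) (Z.charpoly.map σ)
    have h6 : (⅟(c⁻¹) : F) = c := by rw [invOf_eq_inv, inv_inv]
    rw [h6, ← eval, h3, eq_self_iff_true, true_iff, ← eval, eval_map] at h5
    have h7 : c⁻¹ = σ c := by
      rw [hcdef, map_mul, map_inv₀, hB.ss, mul_inv, inv_inv, mul_comm]
    rw [h7, eval₂_at_apply] at h5
    exact (map_eq_zero σ).1 h5)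
  -- assemble
  set H : V ≃ₗ[F] V := k * u₂ * u₁⁻¹ with hH
  have hHm : H ∈ SGr B := (SGr B).mul_mem ((SGr B).mul_mem hkm hu₂) ((SGr B).inv_mem hu₁)
  have hfin : G * (z * H) = H * z := by
    have h3 : G * z = k * y * k⁻¹ := by rw [hydef]; group
    have h4 : x = u₁⁻¹ * z * u₁ := by rw [hzu]; group
    calc G * (z * H) = (G * z) * H := by group
      _ = k * (u₂ * x * u₂⁻¹) * k⁻¹ * H := by rw [h3, hyu]
      _ = k * (u₂ * (u₁⁻¹ * z * u₁) * u₂⁻¹) * k⁻¹ * H := by rw [← h4]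
      _ = H * z := by rw [hH]; group
  refine ⟨z₀, (H : V →ₗ[F] V), hz, (mem_SGr.1 hHm).1, hzd1, (mem_SGr.1 hHm).2, ?_⟩
  ext v
  have := congrArg (fun a : V ≃ₗ[F] V => a v) hfin
  exact this

end Cfsg.Agent.H98.Ore
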