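import Cfsg.Agent.H98.Ore.FrameA

/-!
# Completing a frame, determinants
-/

set_option autoImplicit false
set_option linter.unusedSectionVars false

namespace Cfsg.Agent.H98.Ore

open Module Polynomial Cfsg.Agent.H951 Matrix

variable {F V : Type*} [Field F] [Fintype F] [AddCommGroup V] [Module F V] [FiniteDimensional F V]
  {q : ℕ} {σ : F →+* F} {B : V → V → F}
  {ι μ : Type} [Fintype ι] [DecidableEq ι] [Fintype μ] [DecidableEq μ] {w w' : ι → V} {l : μ → V}

lemma Isom.inj' (hB : HS q σ B) {x : End F V} (hx : Isom B x) : Function.Injective x := by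
  rw [← LinearMap.ker_eq_bot, LinearMap.ker_eq_bot']
  intro u hu
  apply hB.nd
  intro v
  rw [← hx, hu, hB.zero_left]

/-- The basis attached to a full frame. -/
noncomputable def FF.basis (hB : HS q σ B) (h : FF B w w' l) : Basis (ι ⊕ (μ ⊕ ι)) F V :=
  Basis.ofEquivFun
    { toFun := fun u => Sum.elim (fun i => B u (w' i)) (Sum.elim (fun i => B u (l i)) (fun i => B u (w i)))
      invFun := fun a => ∑ i, a (Sum.inl i) • w i + ∑ i, a (Sum.inr (Sum.inr i)) • w' i +
        ∑ i, a (Sum.inr (Sum.inl i)) • l i
      map_add' := by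
        intro u v
        funext i
        rcases i with i | i | i <;> simp [hB.add_left]
      map_smul' := by
        intro c u
        funext i
        rcases i with i | i | i <;> simp [hB.smul_left]
      left_inv := by
        intro u
        simp only [Sum.elim_inl, Sum.elim_inr]
        exact (h.expand hB u).symm
      right_inv := by
        intro a
        funext j
        rcases j with j | j | j
        · simp only [Sum.elim_inl]
          rw [hB.add_left, hB.add_left, sum_left' hB, sum_left' hB, sum_left' hB]
          simp [h.fr.ww', h.fr.dual, h.lw']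
        · simp only [Sum.elim_inl, Sum.elim_inr]
          rw [hB.add_left, hB.add_left, sum_left' hB, sum_left' hB, sum_left' hB]
          simp [h.ll, h.wl hB, h.w'l hB]
        · simp only [Sum.elim_inr]
          rw [hB.add_left, hB.add_left, sum_left' hB, sum_left' hB, sum_left' hB]
          simp [h.fr.ww, h.fr.dual' hB, h.lw] }

lemma FF.basis_repr (hB : HS q σ B) (h : FF B w w' l) (u : V) :
    ((h.basis hB).repr u : ι ⊕ (μ ⊕ ι) → F) =
      Sum.elim (fun i => B u (w' i)) (Sum.elim (fun i => B u (l i)) (fun i => B u (w i))) := by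
  funext i
  rw [FF.basis, Basis.ofEquivFun_repr_apply]
  rfl

lemma FF.basis_inl (hB : HS q σ B) (h : FF B w w' l) (i : ι) : h.basis hB (Sum.inl i) = w i := by
  apply (h.basis hB).repr.injective
  ext j
  rw [Basis.repr_self, congrFun (h.basis_repr hB (w i)) j]
  rcases j with j | j | j
  · simp [h.fr.dual, Finsupp.single_apply]
  · simp [h.wl hB]
  · simp [h.fr.ww]

lemma FF.basis_mid (hB : HS q σ B) (h : FF B w w' l) (i : μ) : h.basis hB (Sum.inr (Sum.inl i)) = l i := by
  apply (h.basis hB).repr.injective
  ext j
  rw [Basis.repr_self, congrFun (h.basis_repr hB (l i)) j]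
  rcases j with j | j | j
  · simp [h.lw']
  · simp [h.ll, Finsupp.single_apply]
  · simp [h.lw]

lemma FF.basis_inr (hB : HS q σ B) (h : FF B w w' l) (i : ι) : h.basis hB (Sum.inr (Sum.inr i)) = w' i := by
  apply (h.basis hB).repr.injective
  ext j
  rw [Basis.repr_self, congrFun (h.basis_repr hB (w' i)) j]
  rcases j with j | j | j
  · simp [h.fr.ww']
  · simp [h.w'l hB]
  · simp [h.fr.dual' hB, Finsupp.single_apply]

lemma FF.finrank (hB : HS q σ B) (h : FF B w w' l) :
    finrank F V = 2 * Fintype.card ι + Fintype.card μ := by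
  rw [Module.finrank_eq_card_basis (h.basis hB)]
  simp
  ring

/-- The determinant of an isometry stabilising the span of `w`. -/
lemma FF.det_eq (hB : HS q σ B) (h : FF B w w' l) {x : End F V} (hx : Isom B x) {Z : Matrix ι ι F}
    (hZ : Z.det ≠ 0) (hxw : ∀ j, x (w j) = ∑ i, Z i j • w i) :
    LinearMap.det x * σ Z.det = Z.det * (Matrix.of fun i j => B (x (l j)) (l i)).det := by
  have hZu : IsUnit Z.det := isUnit_iff_ne_zero.2 hZ
  -- `w i` is in the span of `x (w j)`
  have hw : ∀ i, w i = ∑ k, Z⁻¹ k i • x (w k) := by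
    intro i
    simp only [hxw, Finset.smul_sum, smul_smul]
    rw [Finset.sum_comm]
    simp only [← Finset.sum_smul]
    have : ∀ j, (∑ k, Z⁻¹ k i * Z j k) = if j = i then 1 else 0 := by
      intro j
      have h1 : (Z * Z⁻¹) j i = (1 : Matrix ι ι F) j i := by rw [Matrix.mul_nonsing_inv Z hZu]
      rw [Matrix.mul_apply, Matrix.one_apply] at h1
      rw [← h1]
      exact Finset.sum_congr rfl fun k _ => mul_comm _ _
    simp [this]
  have hxl : ∀ j i, B (x (l j)) (w i) = 0 := by
    intro j i
    rw [hw i, sum_right' hB]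
    apply Finset.sum_eq_zero
    intro k _
    rw [hx, h.lw, mul_zero]
  have hxw' : ∀ j i, B (x (w' j)) (w i) = σ (Z⁻¹ j i) := by
    intro j i
    rw [hw i, sum_right' hB]
    simp [hx _ _, h.fr.dual' hB]
  have hM : LinearMap.toMatrix (h.basis hB) (h.basis hB) x = Matrix.fromBlocks Z
      (Matrix.of fun i j => B (x (Sum.elim l w' j)) (w' i)) 0
      (Matrix.fromBlocks (Matrix.of fun i j => B (x (l j)) (l i)) (Matrix.of fun i j => B (x (w' j)) (l i)) 0
        (Matrix.of fun i j => σ (Z⁻¹ j i))) := by
    ext i j
    rw [LinearMap.toMatrix_apply, congrFun (h.basis_repr hB _) i]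
    rcases j with j | j | j
    · rw [h.basis_inl hB, hxw j]
      rcases i with i | i | i
      · simp [sum_left' hB, h.fr.dual]
      · simp [sum_left' hB, h.wl hB]
      · simp [sum_left' hB, h.fr.ww]
    · rw [h.basis_mid hB]
      rcases i with i | i | i
      · simp
      · simp
      · simp [hxl]
    · rw [h.basis_inr hB]
      rcases i with i | i | i
      · simp
      · simp
      · simp [hxw']
  have hdet := LinearMap.det_toMatrix (h.basis hB) x
  rw [hM, Matrix.det_fromBlocks_zero₂₁, Matrix.det_fromBlocks_zero₂₁] at hdet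
  have h3 : (Matrix.of fun i j => σ (Z⁻¹ j i)).det = σ (Z⁻¹).det := by
    have : (Matrix.of fun i j => σ (Z⁻¹ j i)) = (σ.mapMatrix Z⁻¹)ᵀ := by
      ext i j; rfl
    rw [this, Matrix.det_transpose, RingHom.map_det]
  rw [h3] at hdet
  rw [← hdet, Matrix.det_nonsing_inv]
  have h4 : σ (Ring.inverse Z.det) * σ Z.det = 1 := by
    rw [← map_mul, Ring.inverse_mul_cancel _ hZu, map_one]
  linear_combination (Z.det * (Matrix.of fun i j => B (x (l j)) (l i)).det) * h4

/-- The determinant of an isometry has norm one. -/
lemma Isom.det_norm (hB : HS q σ B) {x : End F V} (hx : Isom B x) :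
    LinearMap.det x * σ (LinearMap.det x) = 1 := by
  classical
  let b := Module.finBasis F V
  let G : Matrix (Fin (Module.finrank F V)) (Fin (Module.finrank F V)) F := Matrix.of fun i j => B (b i) (b j)
  let M := LinearMap.toMatrix b b x
  have hxb : ∀ j, x (b j) = ∑ i, M i j • b i := by
    intro j
    have := b.sum_repr (x (b j))
    rw [← this]
    refine Finset.sum_congr rfl fun i _ => ?_
    change _ = (LinearMap.toMatrix b b x) i j • b i
    rw [LinearMap.toMatrix_apply]
  have hG : G = Mᵀ * G * σ.mapMatrix M := by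
    ext i j
    have h1 : G i j = B (x (b i)) (x (b j)) := (hx _ _).symm
    rw [h1, hxb i, hxb j, sum_left' hB]
    simp only [sum_right' hB]
    rw [Matrix.mul_apply]
    simp only [Matrix.mul_apply, Finset.sum_mul, Finset.mul_sum]
    rw [Finset.sum_comm]
    refine Finset.sum_congr rfl fun k _ => Finset.sum_congr rfl fun m _ => ?_
    simp only [Matrix.transpose_apply, RingHom.mapMatrix_apply, Matrix.map_apply, G, Matrix.of_apply]
    ring
  have hG0 : G.det ≠ 0 := by
    intro h0
    obtain ⟨v, hv, hv0⟩ := Matrix.exists_vecMul_eq_zero_iff.2 h0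
    apply hv
    have hs : ∑ i, v i • b i = 0 := by
      apply hB.nd
      intro y
      rw [← b.sum_repr y, sum_right' hB]
      apply Finset.sum_eq_zero
      intro j _
      rw [sum_left' hB]
      have := congrFun hv0 j
      rw [Matrix.vecMul, dotProduct] at this
      simp only [G, Matrix.of_apply, Pi.zero_apply] at this
      rw [this, mul_zero]
    have hli := Fintype.linearIndependent_iff.1 b.linearIndependent v hs
    funext i
    exact hli i
  have h2 := congrArg Matrix.det hG
  rw [Matrix.det_mul, Matrix.det_mul, Matrix.det_transpose, ← RingHom.map_det] at h2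
  have h3 : M.det = LinearMap.det x := LinearMap.det_toMatrix b x
  rw [h3] at h2
  have h4 : G.det * (LinearMap.det x * σ (LinearMap.det x)) = G.det * 1 := by
    rw [mul_one]; conv_rhs => rw [h2]
    ring
  exact mul_left_cancel₀ hG0 h4

end Cfsg.Agent.H98.Ore
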