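import Cfsg.Agent.H98.Ore.FrameB

/-!
# Completing a frame to a full frame; isometries between frames; `cor_det`
-/

set_option autoImplicit false
set_option linter.unusedSectionVars false

namespace Cfsg.Agent.H98.Ore

open Module Polynomial Cfsg.Agent.H951 Matrix

variable {F V : Type*} [Field F] [Fintype F] [AddCommGroup V] [Module F V] [FiniteDimensional F V]
  {q : ℕ} {σ : F →+* F} {B : V → V → F}
  {ι : Type} [Fintype ι] [DecidableEq ι] {w w' : ι → V}

/-- evaluation on a frame -/
noncomputable def evf (B : V → V → F) (hB : HS q σ B) (w w' : ι → V) : V →ₗ[F] (ι → F) × (ι → F) where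
  toFun u := (fun i => B u (w' i), fun i => B u (w i))
  map_add' a b := by
    ext i <;> simp [hB.add_left]
  map_smul' c a := by
    ext i <;> simp [hB.smul_left]

lemma evf_surj (hB : HS q σ B) (h : Fr B w w') : Function.Surjective (evf B hB w w') := by
  rintro ⟨a, b⟩
  refine ⟨∑ i, a i • w i + ∑ i, b i • w' i, ?_⟩
  ext j
  · simp [evf, hB.add_left, sum_left' hB, h.dual, h.ww']
  · simp [evf, hB.add_left, sum_left' hB, h.dual' hB, h.ww]

lemma finrank_ker_evf (hB : HS q σ B) (h : Fr B w w') :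
    finrank F (LinearMap.ker (evf B hB w w')) + 2 * Fintype.card ι = finrank F V := by
  have h1 := LinearMap.finrank_range_add_finrank_ker (evf B hB w w')
  rw [LinearMap.range_eq_top.2 (evf_surj hB h), finrank_top, Module.finrank_prod,
    Module.finrank_fintype_fun_eq_card] at h1
  omega

lemma mem_ker_evf (hB : HS q σ B) (u : V) : u ∈ LinearMap.ker (evf B hB w w') ↔
    (∀ i, B u (w i) = 0) ∧ (∀ i, B u (w' i) = 0) := by
  rw [LinearMap.mem_ker]
  constructor
  · intro h
    exact ⟨fun i => congrFun (congrArg Prod.snd h) i, fun i => congrFun (congrArg Prod.fst h) i⟩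
  · rintro ⟨h1, h2⟩
    ext i
    · exact h2 i
    · exact h1 i

lemma exists_FF_even (hB : HS q σ B) (h : Fr B w w') (hn : finrank F V = 2 * Fintype.card ι) :
    FF B w w' (fun i : Fin 0 => i.elim0) where
  fr := h
  ll i := i.elim0
  lw i := i.elim0
  lw' i := i.elim0
  full u h1 h2 _ := by
    have h3 := finrank_ker_evf hB h
    have h4 : LinearMap.ker (evf B hB w w') = ⊥ := by
      rw [← Submodule.finrank_eq_zero (R := F)]
      omega
    have h5 := (mem_ker_evf (w := w) (w' := w') hB u).2 ⟨h1, h2⟩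
    rw [h4] at h5
    exact (Submodule.mem_bot F).1 h5

lemma exists_FF_odd (hB : HS q σ B) (h : Fr B w w') (hn : finrank F V = 2 * Fintype.card ι + 1) :
    ∃ l : Fin 1 → V, FF B w w' l := by
  have h3 := finrank_ker_evf hB h
  obtain ⟨⟨l₀, hl₀⟩, hl0, hspan⟩ := finrank_eq_one_iff'.1 (show finrank F (LinearMap.ker (evf B hB w w')) = 1 by omega)
  have hl0' : l₀ ≠ 0 := fun h0 => hl0 (Subtype.ext h0)
  have hspan' : ∀ u, (∀ i, B u (w i) = 0) → (∀ i, B u (w' i) = 0) → ∃ c : F, c • l₀ = u := by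
    intro u h1 h2
    obtain ⟨c, hc⟩ := hspan ⟨u, (mem_ker_evf hB u).2 ⟨h1, h2⟩⟩
    exact ⟨c, congrArg Subtype.val hc⟩
  obtain ⟨hlw, hlw'⟩ := (mem_ker_evf hB l₀).1 hl₀
  have hll : B l₀ l₀ ≠ 0 := by
    intro h0
    apply hl0'
    apply hB.nd
    intro y
    -- y minus its projection is a multiple of l₀
    obtain ⟨c, hc⟩ := hspan' (y - (∑ i, B y (w' i) • w i + ∑ i, B y (w i) • w' i)) (by
      intro j
      rw [hB.sub_left, hB.add_left, sum_left' hB, sum_left' hB]
      simp [h.ww, h.dual' hB]) (by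
      intro j
      rw [hB.sub_left, hB.add_left, sum_left' hB, sum_left' hB]
      simp [h.ww', h.dual])
    have : y = c • l₀ + (∑ i, B y (w' i) • w i + ∑ i, B y (w i) • w' i) := by rw [hc]; abel
    rw [this, hB.add_right, hB.add_right, hB.smul_right, sum_right' hB, sum_right' hB, h0]
    simp [hlw, hlw']
  have hfix : (B l₀ l₀)⁻¹ ^ q = (B l₀ l₀)⁻¹ := by
    rw [inv_pow, ← hB.sig, ← hB.symm]
  obtain ⟨a, ha0, ha⟩ := LieClassical.HermBasic.exists_norm_eq_ne hB.card hfix (inv_ne_zero hll)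
  refine ⟨fun _ => a • l₀, h, ?_, ?_, ?_, ?_⟩
  · intro i j
    rw [Subsingleton.elim i j, if_pos rfl, hB.smul_left, hB.smul_right, hB.sig, ← mul_assoc, ha,
      inv_mul_cancel₀ hll]
  · intro i j; rw [hB.smul_left, hlw, mul_zero]
  · intro i j; rw [hB.smul_left, hlw', mul_zero]
  · intro u h1 h2 h4
    obtain ⟨c, rfl⟩ := hspan' u h1 h2
    have h5 := h4 0
    rw [hB.smul_left, hB.smul_right] at h5
    have h6 : σ a ≠ 0 := (map_ne_zero σ).2 ha0
    rcases mul_eq_zero.1 h5 with h7 | h7
    · rw [h7, zero_smul]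
    · exact absurd h7 (mul_ne_zero h6 hll)

/-- For a frame of maximal size there is a full frame with `e ≤ 1` extra vectors, `e = dim V - 2 |ι|`. -/
lemma exists_FF (hB : HS q σ B) {e : ℕ} (he : e ≤ 1) (hn : finrank F V = 2 * Fintype.card ι + e) (h : Fr B w w') :
    ∃ l : Fin e → V, FF B w w' l := by
  interval_cases e
  · exact ⟨_, exists_FF_even hB h hn⟩
  · exact exists_FF_odd hB h hn

/-- Isometries between frames. -/
lemma exists_isom (hB : HS q σ B) {e : ℕ} (he : e ≤ 1) (hn : finrank F V = 2 * Fintype.card ι + e) (h : Fr B w w')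
    {v v' : ι → V} (h2 : Fr B v v') :
    ∃ x : End F V, Isom B x ∧ (∀ i, x (w i) = v i) ∧ (∀ i, x (w' i) = v' i) ∧ (e = 1 → LinearMap.det x = 1) := by
  obtain ⟨l, hl⟩ := exists_FF hB he hn h
  obtain ⟨k, hk⟩ := exists_FF hB he hn h2
  have hx := fmap_isom hB hl hk
  set x := fmap B hB w w' l v v' k with hxd
  by_cases he1 : e = 1
  · subst he1
    -- correct the determinant
    set d := LinearMap.det x with hd
    have hdn : d * σ d = 1 := Isom.det_norm hB hx
    have hd0 : d ≠ 0 := left_ne_zero_of_mul_eq_one hdn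
    have hk' : FF B w w' (fun i => d⁻¹ • l i) := by
      have hσ : d⁻¹ * σ d⁻¹ = 1 := by
        rw [map_inv₀, ← mul_inv, hdn, inv_one]
      refine ⟨hl.fr, fun i j => ?_, fun i j => ?_, fun i j => ?_, fun u h1 h2 h3 => hl.full u h1 h2 fun i => ?_⟩
      · rw [hB.smul_left, hB.smul_right, ← mul_assoc, hσ, one_mul, hl.ll]
      · rw [hB.smul_left, hl.lw, mul_zero]
      · rw [hB.smul_left, hl.lw', mul_zero]
      · have := h3 i
        rw [hB.smul_right] at this
        exact (mul_eq_zero.1 this).resolve_left ((map_ne_zero σ).2 (inv_ne_zero hd0))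
    have hy := fmap_isom hB hl hk'
    set y := fmap B hB w w' l w w' (fun i => d⁻¹ • l i) with hyd
    have hdy : LinearMap.det y = d⁻¹ := by
      have h5 := hl.det_eq hB hy (Z := 1) (by simp) (fun j => by
        rw [hyd, fmap_w hB hl]; simp [Matrix.one_apply])
      rw [Matrix.det_one, map_one, mul_one, one_mul, Matrix.det_fin_one] at h5
      rw [h5, Matrix.of_apply, hyd, fmap_l hB hl, hB.smul_left, hl.ll, if_pos rfl, mul_one]
    refine ⟨x * y, fun a b => ?_, fun i => ?_, fun i => ?_, fun _ => ?_⟩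
    · rw [Module.End.mul_apply, Module.End.mul_apply, hx, hy]
    · rw [Module.End.mul_apply, hyd, fmap_w hB hl, hxd, fmap_w hB hl]
    · rw [Module.End.mul_apply, hyd, fmap_w' hB hl, hxd, fmap_w' hB hl]
    · rw [Module.End.mul_eq_comp, LinearMap.det_comp, hdy, ← hd, mul_inv_cancel₀ hd0]
  · exact ⟨x, hx, fun i => fmap_w hB hl i, fun i => fmap_w' hB hl i, fun h => absurd h he1⟩

/-- Determinant of an isometry which acts on the span of `w` by `Z` : even dimension. -/
lemma det_even (hB : HS q σ B) (hn : finrank F V = 2 * Fintype.card ι) (h : Fr B w w') {x : End F V}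
    (hx : Isom B x) {Z : Matrix ι ι F} (hZ : Z.det ≠ 0) (hxw : ∀ j, x (w j) = ∑ i, Z i j • w i) :
    LinearMap.det x * σ Z.det = Z.det := by
  have := (exists_FF_even hB h hn).det_eq hB hx hZ hxw
  rwa [Matrix.det_fin_zero, mul_one] at this

/-- the frame `(w X, w' X^{-*})` -/
lemma Fr.trans (hB : HS q σ B) (h : Fr B w w') {X Y : Matrix ι ι F} (hXY : ∀ i j, ∑ k, X k i * σ (Y k j) = if i = j then 1 else 0) :
    Fr B (fun j => ∑ i, X i j • w i) (fun j => ∑ i, Y i j • w' i) where
  ww i j := by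
    rw [sum_left' hB]
    simp only [sum_right' hB]
    simp [h.ww]
  dual i j := by
    rw [sum_left' hB]
    simp only [sum_right' hB, h.dual]
    simp only [mul_ite, mul_one, mul_zero, Finset.sum_ite_eq, Finset.mem_univ, if_true]
    exact hXY i j
  ww' i j := by
    rw [sum_left' hB]
    simp only [sum_right' hB]
    simp [h.ww']

/-- `X^{-*}` -/
noncomputable def ist (σ : F →+* F) (X : Matrix ι ι F) : Matrix ι ι F := Matrix.of fun i j => σ (X⁻¹ j i)

lemma ist_apply (X : Matrix ι ι F) (i j : ι) : ist σ X i j = σ (X⁻¹ j i) := rfl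

lemma ist_dual (hB : HS q σ B) {X : Matrix ι ι F} (hX : X.det ≠ 0) (i j : ι) :
    ∑ k, X k i * σ (ist σ X k j) = if i = j then 1 else 0 := by
  simp only [ist_apply, hB.ss]
  have h1 : (X⁻¹ * X) j i = (1 : Matrix ι ι F) j i := by
    rw [Matrix.nonsing_inv_mul X (isUnit_iff_ne_zero.2 hX)]
  rw [Matrix.mul_apply, Matrix.one_apply] at h1
  simp only [eq_comm (a := i) (b := j)]
  rw [← h1]
  exact Finset.sum_congr rfl fun k _ => mul_comm _ _

lemma ist_mul (X Y : Matrix ι ι F) : ist σ (X * Y) = ist σ X * ist σ Y := by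
  ext i j
  rw [ist_apply, Matrix.mul_inv_rev, Matrix.mul_apply, Matrix.mul_apply, map_sum]
  refine Finset.sum_congr rfl fun k _ => ?_
  rw [map_mul, ist_apply, ist_apply, mul_comm]

theorem cor_det (hB : HS q σ B) {g : End F V} (hg : Isom B g) (hι : finrank F V = 2 * Fintype.card ι)
    {P : Matrix ι ι F} (hP : Cor B g P) (h0 : P.det ≠ 0) : P.det = LinearMap.det g * σ P.det := by
  obtain ⟨w, w', hw, hPw⟩ := hP
  -- the isometry `z` fixing `w` with `g z` acting on `w'` by `P^{-*}`
  have hgb : Function.Bijective g := ⟨Isom.inj' hB hg, LinearMap.surjective_of_injective (Isom.inj' hB hg)⟩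
  choose gi hgi using hgb.2
  have hfr : Fr B w (fun j => gi (∑ i, ist σ P i j • w' i)) := by
    refine ⟨hw.ww, fun i j => ?_, fun i j => ?_⟩
    · rw [← hg, hgi, sum_right' hB]
      simp only [hPw]
      rw [← ist_dual hB h0 i j]
      exact Finset.sum_congr rfl fun k _ => mul_comm _ _
    · rw [← hg, hgi, hgi, sum_left' hB]
      simp only [sum_right' hB]
      simp [hw.ww']
  obtain ⟨z, hz, hzw, hzw', -⟩ := exists_isom hB (e := 0) (by norm_num) (by rw [hι, add_zero]) hw hfr
  have hdz : LinearMap.det z = 1 := by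
    have := det_even hB hι hw hz (Z := 1) (by simp) (fun j => by rw [hzw]; simp [Matrix.one_apply])
    rwa [Matrix.det_one, map_one, mul_one] at this
  have hgz : Isom B (g * z) := fun a b => by rw [Module.End.mul_apply, Module.End.mul_apply, hg, hz]
  have hdI : (ist σ P).det = σ (P.det)⁻¹ := by
    have : ist σ P = (σ.mapMatrix P⁻¹)ᵀ := by ext i j; rfl
    rw [this, Matrix.det_transpose, ← RingHom.map_det, Matrix.det_nonsing_inv, Ring.inverse_eq_inv']
  have h1 := det_even hB hι (hw.swap hB) hgz (Z := ist σ P) (by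
    rw [hdI]; exact (map_ne_zero σ).2 (inv_ne_zero h0)) (fun j => by
    rw [Module.End.mul_apply, hzw', hgi])
  rw [Module.End.mul_eq_comp, LinearMap.det_comp, hdz, mul_one, hdI, hB.ss, map_inv₀] at h1
  have h2 : σ P.det ≠ 0 := (map_ne_zero σ).2 h0
  field_simp at h1
  linear_combination -h1

end Cfsg.Agent.H98.Ore
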