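import Cfsg.Agent.H98.Ore.CritB
import Cfsg.Agent.H864.Ore.GlComm
import Cfsg.Agent.H117.OrePoly

/-!
# T12 : a good corner gives a commutator
-/

set_option autoImplicit false
set_option linter.unusedSectionVars false

namespace Cfsg.Agent.H98.Ore

open Module Polynomial Cfsg.Agent.H951 Matrix

universe u

variable {F : Type*} {V : Type*} [Field F] [Fintype F] [AddCommGroup V] [Module F V] [FiniteDimensional F V]
  {q : ℕ} {σ : F →+* F} {B : V → V → F}

/-- T12 -/
theorem comm_of_good (hB : HS q σ B) (hn : 4 ≤ finrank F V) {g : End F V} (hg : Isom B g) (hdet : LinearMap.det g = 1)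
    (h : Good B g) : IsComm B g := by
  obtain ⟨ι, hι1, hι2, P, hcard, hcor, hPd, x, p, hp, hpx⟩ := h
  have h2 : 2 ≤ Fintype.card ι := by omega
  have hq2 := LieClassical.HermBasic.two_le hB.card
  have hF4 : 4 ≤ Nat.card F := by
    rw [Nat.card_eq_fintype_card, hB.card]
    nlinarith
  obtain ⟨f, hf, hfm, hfd, hf0, hcop, -⟩ := Cfsg.Agent.H117.OrePoly.exists_poly hB.card σ hB.sig h2
  obtain ⟨Z, k, hZf, hk, hPZ⟩ := Cfsg.Agent.H864.Ore.gl_comm hF4 P hPd x p hp hpx f hf hfm hfd h2
  have hc0 : f.coeff 0 ≠ 0 := by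
    intro h0
    have h3 : f.eval 0 = 0 := by rw [← coeff_zero_eq_eval_zero, h0]
    have h4 := Polynomial.degree_eq_one_of_irreducible_of_root hf h3
    have h5 : f.natDegree = 1 := natDegree_eq_of_degree_eq_some h4
    omega
  have hdetZ : Z.det = (-1) ^ Fintype.card ι * f.coeff 0 := by
    rw [Matrix.det_eq_sign_charpoly_coeff, hZf]
  have hZ0 : Z.det ≠ 0 := by
    rw [hdetZ]
    exact mul_ne_zero (pow_ne_zero _ (neg_ne_zero.2 one_ne_zero)) hc0
  have hσZ : σ Z.det = Z.det := by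
    rw [hdetZ, map_mul, hf0, map_pow, map_neg, map_one]
  refine criterion hB hg hdet hcard hcor hPZ hk hZ0 (fun _ => hσZ) (by rw [hZf]; exact hcop) ?_
  rw [hσZ, mul_inv_cancel₀ hZ0, hZf]
  intro h3
  have h4 := Polynomial.degree_eq_one_of_irreducible_of_root hf h3
  have h5 : f.natDegree = 1 := natDegree_eq_of_degree_eq_some h4
  omega

end Cfsg.Agent.H98.Ore
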